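import Cfsg.Agent.H25.Th.BoundH
import Cfsg.Agent.H32.ThFaith.Data

/-!
The further relator of `<a, c, d, e, s, t>` follows from the relators of the first three groups of
the presentation of the Thompson group (those of `<a, b, c, d, e, s, t>`).
-/

set_option autoImplicit false
set_option maxRecDepth 100000

namespace Cfsg.Agent.H32.ThFaith

open Cfsg.Agent.H45 Cfsg.Agent.H25.Th

theorem datR_ok : datR.dataOK = true := by decide +kernel

theorem segR_ok : datR.checkSeg cmp1024 0 segR = true := by decide +kernel

theorem segR_len : segR.length = 2485 := by decide +kernel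

theorem datR_rels : (datR.R.all (fun w => decide (w ∈ relH)) &&
    relA.all (fun w => decide (w ∈ relH))) = true := by decide +kernel

theorem loopR : (Nat.beq (datR.fp 2484) (datR.fq 2484) && Nat.beq (datR.fl 2484) 9 &&
    r0.all (fun l => Nat.blt l 8) && cmp1024 (datR.flab 2484) r0) = true := by decide +kernel

variable {G : Type*} [Group G] {e : ℕ → G}

/-- The further relator is a consequence. -/
theorem r0_of_relH (hi : ∀ l, l < 9 → e (linv ivH l) = (e l)⁻¹)
    (hR : ∀ w ∈ relH, evalW e w = 1) : evalW e r0 = 1 := by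
  have h2 := datR_rels
  rw [Bool.and_eq_true] at h2
  have hiA : ∀ l, l < 8 → e (linv ivA l) = (e l)⁻¹ := by
    intro l hl
    rw [← hi l (by omega)]
    interval_cases l <;> rfl
  have hRA : ∀ w ∈ relA, evalW e w = 1 := fun w hw =>
    hR w (of_decide_eq_true (List.all_eq_true.mp h2.2 w hw))
  have hs : datR.Sound e ⊥ cmp1024 :=
    { data := datR_ok
      invl := hi
      rel := fun w hw => hR w (of_decide_eq_true (List.all_eq_true.mp h2.1 w hw))
      norm := fun l _ x hx => by simp [Subgroup.mem_bot.mp hx]
      cmp := fun u v hu hv hc => by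
        rw [Subgroup.mem_bot, mul_inv_eq_one]
        exact eq_of_walks1024 hiA hRA hu hv (sameBase_sound hc) }
  have h1 : FD.FOK datR e ⊥ 2484 :=
    FD.checkSeg_sound hs segR 0 (fun k hk => absurd hk (by omega)) segR_ok 2484
      (by rw [segR_len]; omega)
  have hl := loopR
  simp only [Bool.and_eq_true, Nat.beq_eq, List.all_eq_true, blt_iff] at hl
  obtain ⟨⟨⟨hp, hfl⟩, hr⟩, hc⟩ := hl
  have hlow := (FD.data_spec datR_ok).2.2.2.2.2 2484
  have h3 := hs.cmp _ _ hlow hr hc
  unfold FD.FOK FD.Rel at h1
  rw [hp, hfl, trim, if_neg (by decide), mul_one, mul_inv_cancel, one_mul, Subgroup.mem_bot,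
    inv_eq_one] at h1
  rw [Subgroup.mem_bot, h1, one_mul, inv_eq_one] at h3
  exact h3

/-- The assumptions of the bound on `<a, b, c, d, e, s, t>` from the first three groups alone. -/
theorem hLetters (hi : ∀ l, l < 9 → e (linv ivH l) = (e l)⁻¹)
    (hR : ∀ w ∈ relH, evalW e w = 1) : HLetters e := by
  refine ⟨hi, fun w hw => ?_⟩
  rcases List.mem_append.mp hw with hw | hw
  · exact hR w hw
  · rw [List.mem_singleton.mp hw]
    exact r0_of_relH hi hR

end Cfsg.Agent.H32.ThFaith
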