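import Cfsg.Agent.H32.ThFaith.Main

/-!
The index of the subgroup generated by `a, b, c, d, e, s, t` in the presented Thompson group,
given the upper bounds.
-/

set_option autoImplicit false

namespace Cfsg.Agent.H32.ThFaith

open Cfsg.Agent.H40.Th
open Cfsg.Spor (Th)

theorem words_eq_HH :
    (Subgroup.closure ({Th.a, Th.b, Th.c, Th.d, Th.e, Th.s, Th.t} : Set (FreeGroup Th.Gen))).map
      (PresentedGroup.mk (Cfsg.Spor.coxRelators Th.edges ∪ {r | r ∈ Th.extra})) = HH := by
  rw [MonoidHom.map_closure, HH]
  congr 1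
  simp [Set.image_insert_eq, gen, PresentedGroup.of]

/-- The index statement from the bounds. -/
theorem index_words (hfin : Finite Th) (hle : Nat.card Th ≤ 90745943887872000)
    (hi : HH.index ≤ 143127000) :
    ((Subgroup.closure ({Th.a, Th.b, Th.c, Th.d, Th.e, Th.s, Th.t} : Set (FreeGroup Th.Gen))).map
      (PresentedGroup.mk (Cfsg.Spor.coxRelators Th.edges ∪ {r | r ∈ Th.extra}))).index =
      143127000 := by
  rw [words_eq_HH]
  exact (ThRep.card_and_index hfin hle card_HH_le hi).2

end Cfsg.Agent.H32.ThFaith
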