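import Cfsg.Agent.H32.ThFaith.Further
import Cfsg.Agent.H40.Th.Table
import Cfsg.Agent.H83.ThMult.Main
import Cfsg.Agent.H32.ThRep.Order

/-!
A word in `a, b, c, d, e, s, t` which is trivial in the presented Thompson group follows from the
relators of the first three groups, given the order of the subgroup these letters generate.
-/

set_option autoImplicit false
set_option maxRecDepth 100000

namespace Cfsg.Agent.H32.ThFaith

open Cfsg.Agent.H45 Cfsg.Agent.H25.Th Cfsg.Agent.H40.Th
open Cfsg.Spor (Th)

/-- The first three groups of relators. -/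
abbrev r27 : Set (FreeGroup Th.Gen) := {r | r ∈ Th.extra.take 27}

/-- Values of the letters in the group presented by the first three groups. -/
def pv (l : ℕ) : PresentedGroup r27 :=
  (lsign[l]?).elim 1 fun x => cond x.2 (PresentedGroup.of x.1) (PresentedGroup.of x.1)⁻¹

theorem lift_of (r : FreeGroup Th.Gen) :
    FreeGroup.lift (PresentedGroup.of (rels := r27)) r = PresentedGroup.mk r27 r :=
  DFunLike.congr_fun (FreeGroup.ext_hom (FreeGroup.lift PresentedGroup.of) (PresentedGroup.mk r27)
    fun y => by rw [FreeGroup.lift_apply_of]; rfl) r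

theorem prel_one {r : FreeGroup Th.Gen} (hr : r ∈ Th.extra.take 27) :
    FreeGroup.lift (PresentedGroup.of (rels := r27)) r = 1 := by
  rw [lift_of]
  exact PresentedGroup.one_of_mem hr

theorem pinv_of_sq {x : Th.Gen} (h : FreeGroup.of x ^ 2 ∈ Th.extra.take 27) :
    (PresentedGroup.of x : PresentedGroup r27)⁻¹ = PresentedGroup.of x := by
  have h2 := prel_one h
  rw [map_pow, FreeGroup.lift_apply_of, pow_two] at h2
  exact inv_eq_of_mul_eq_one_left h2

theorem pinv_a : (PresentedGroup.of .a : PresentedGroup r27)⁻¹ = PresentedGroup.of .a :=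
  pinv_of_sq (by simp [Th.extra])
theorem pinv_b : (PresentedGroup.of .b : PresentedGroup r27)⁻¹ = PresentedGroup.of .b :=
  pinv_of_sq (by simp [Th.extra])
theorem pinv_c : (PresentedGroup.of .c : PresentedGroup r27)⁻¹ = PresentedGroup.of .c :=
  pinv_of_sq (by simp [Th.extra])
theorem pinv_d : (PresentedGroup.of .d : PresentedGroup r27)⁻¹ = PresentedGroup.of .d :=
  pinv_of_sq (by simp [Th.extra])
theorem pinv_e : (PresentedGroup.of .e : PresentedGroup r27)⁻¹ = PresentedGroup.of .e :=
  pinv_of_sq (by simp [Th.extra])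

theorem pv_code (x : Th.Gen × Bool) :
    pv (code x) = cond x.2 (PresentedGroup.of x.1) (PresentedGroup.of x.1)⁻¹ := by
  obtain ⟨g, b⟩ := x
  cases g <;> cases b <;> simp [pv, code, lsign, pinv_a, pinv_b, pinv_c, pinv_d, pinv_e]

theorem relH_eq : relH = (Th.extra.take 27).map fun r => r.toWord.map code := by decide +kernel

theorem pv_hLetters : HLetters pv := by
  refine ThFaith.hLetters (fun l hl => ?_) fun w hw => ?_
  · interval_cases l <;> simp [pv, linv, ivH, lsign, pinv_a, pinv_b, pinv_c, pinv_d, pinv_e]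
  · rw [relH_eq] at hw
    obtain ⟨r, hr, rfl⟩ := List.mem_map.mp hw
    have h := prel_one hr
    rw [← FreeGroup.mk_toWord (x := r), FreeGroup.lift_mk] at h
    rw [← h, evalW, List.map_map]
    exact congrArg List.prod (List.map_congr_left fun x _ => pv_code x)

theorem r27_le : ∀ r ∈ r27, FreeGroup.lift gen r = 1 :=
  fun _ hr => rel_one (List.mem_of_mem_take hr)

/-- The map to the presented Thompson group. -/
def toTh : PresentedGroup r27 →* Th := PresentedGroup.toGroup r27_le

theorem toTh_pv (l : ℕ) : toTh (pv l) = gv l := by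
  unfold pv gv
  cases h : lsign[l]? with
  | none => simp
  | some x =>
    obtain ⟨g, b⟩ := x
    cases b <;> simp [toTh, gen]

theorem map_upTo : (upTo pv 9).map toTh = upTo gv 9 := by
  rw [upTo, upTo, MonoidHom.map_closure]
  congr 1
  ext x
  constructor
  · rintro ⟨_, ⟨l, hl, rfl⟩, rfl⟩
    exact ⟨l, hl, (toTh_pv l).symm⟩
  · rintro ⟨l, hl, rfl⟩
    exact ⟨pv l, ⟨l, hl, rfl⟩, toTh_pv l⟩

/-- Faithfulness of the first three groups from the order of `<a, b, c, d, e, s, t>`. -/
theorem faith7 (hHH : 634023936 ≤ Nat.card HH) : Cfsg.Agent.H83.ThMult.Faith7 := by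
  intro x hx h1
  have hP := H_card pv_hLetters
  have := hP.2.1
  let f : upTo pv 9 →* upTo gv 9 :=
    ((toTh).comp (upTo pv 9).subtype).codRestrict _ fun y => map_upTo ▸ ⟨y, y.2, rfl⟩
  have hsurj : Function.Surjective f := by
    rintro ⟨z, hz⟩
    obtain ⟨y, hy, rfl⟩ := map_upTo.symm ▸ hz
    exact ⟨⟨y, hy⟩, rfl⟩
  have hfinG : Finite (upTo gv 9) := Finite.of_surjective f hsurj
  have hcard : Nat.card (upTo pv 9) ≤ Nat.card (upTo gv 9) :=
    hP.2.2.trans (hHH.trans (Subgroup.card_le_of_le HH_le_upTo))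
  have hb : Function.Bijective f :=
    (Nat.bijective_iff_surjective_and_card _).2
      ⟨hsurj, le_antisymm hcard (Nat.card_le_card_of_surjective _ hsurj)⟩
  have hmem : PresentedGroup.mk r27 x ∈ upTo pv 9 := by
    have hle : (Subgroup.closure (FreeGroup.of '' {g : Th.Gen | g ≠ .u})).map
        (PresentedGroup.mk r27) ≤ upTo pv 9 := by
      rw [MonoidHom.map_closure, Subgroup.closure_le]
      rintro _ ⟨_, ⟨g, hg, rfl⟩, rfl⟩
      have hc : code (g, true) < 9 := by
        cases g <;> first | exact absurd rfl hg | decide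
      have := mem_upTo (e := pv) hc
      rwa [pv_code] at this
    exact hle ⟨x, hx, rfl⟩
  have hz : f ⟨_, hmem⟩ = 1 := by
    apply Subtype.ext
    show toTh (PresentedGroup.mk r27 x) = 1
    rw [← h1]
    exact DFunLike.congr_fun (FreeGroup.ext_hom (toTh.comp (PresentedGroup.mk r27))
      (PresentedGroup.mk _) fun y => PresentedGroup.toGroup.of (h := r27_le) (x := y)) x
  have := congrArg Subtype.val (hb.1 (hz.trans f.map_one.symm))
  exact (PresentedGroup.mk_eq_one_iff).1 this

/-- The same from the upper bounds. -/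
theorem faith7_of_bounds (hfin : Finite Th) (hle : Nat.card Th ≤ 90745943887872000)
    (hH : Nat.card HH ≤ 634023936) (hi : HH.index ≤ 143127000) :
    Cfsg.Agent.H83.ThMult.Faith7 :=
  faith7 (ThRep.card_and_index hfin hle hH hi).1.ge

/-- The order bound of `<a, b, c, d, e, s, t>`, unconditional. -/
theorem card_HH_le : Nat.card HH ≤ 634023936 := by
  have h := H_card Cfsg.Agent.H40.Th.hLetters
  have := h.2.1
  exact (Subgroup.card_le_of_le HH_le_upTo).trans h.2.2

end Cfsg.Agent.H32.ThFaith
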